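import Groth.Agent.QCoh.FlatOver
import Groth.Agent.QCoh.RpushProper
import Groth.Agent.QCoh.CechMap
import Groth.Agent.H23.PicMul
import Mathlib.RingTheory.Flat.Localization

/-!
# Flatness of sections over the preimage of an affine open
-/

universe u

open CategoryTheory CategoryTheory.Limits AlgebraicGeometry TopologicalSpace Opposite

set_option backward.isDefEq.respectTransparency false
set_option backward.isDefEq.respectTransparency.types false
set_option linter.style.haveILetI false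

namespace Groth.Agent.TwistFlat

open Groth.Agent

variable {A : Type u} [CommRing A] {M : Type u} [AddCommGroup M] [modM : Module A M]

theorem flat_compHom_of_flat {R : Type u} [CommRing R] (φ : R →+* A) (hφ : Function.Bijective φ)
    (h : Module.Flat A M) : letI := Module.compHom M φ; Module.Flat R M := by
  letI : Algebra R A := φ.toAlgebra
  letI := Module.compHom M φ
  haveI : IsScalarTower R A M := .of_algebraMap_smul fun _ _ => rfl
  haveI : Module.Flat R A := Module.Flat.of_linearEquiv (LinearEquiv.ofBijective (Algebra.linearMap R A) hφ).symm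
  exact Module.Flat.trans R A M

theorem flat_of_compHom {R : Type u} [CommRing R] {M : Type u} [AddCommGroup M] (mA : Module A M)
    (mR : Module R M) (φ : R →+* A) (hφ : Function.Bijective φ) (hc : ∀ (r : R) (m : M), r • m = φ r • m)
    (h : @Module.Flat A M _ _ mA) : @Module.Flat R M _ _ mR := by
  letI : Algebra R A := φ.toAlgebra
  haveI : IsScalarTower R A M := .of_algebraMap_smul fun r m => (hc r m).symm
  haveI : Module.Flat R A := Module.Flat.of_linearEquiv (LinearEquiv.ofBijective (Algebra.linearMap R A) hφ).symm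
  exact Module.Flat.trans R A M

/-- Flatness along an isomorphism of rings. -/
theorem flat_compHom_iff {R : Type u} [CommRing R] (φ : R →+* A) (hφ : Function.Bijective φ) :
    Module.Flat A M ↔ (letI := Module.compHom M φ; Module.Flat R M) := by
  refine ⟨fun h => flat_of_compHom modM (Module.compHom M φ) φ hφ (fun _ _ => rfl) h, fun h => ?_⟩
  let e := RingEquiv.ofBijective φ hφ
  refine flat_of_compHom (A := R) (Module.compHom M φ) modM (e.symm : A →+* R) e.symm.bijective
    (fun a m => ?_) h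
  exact congrArg (fun c => c • m) (e.apply_symm_apply a).symm

variable {X Y : Scheme.{u}} (f : X ⟶ Y) {V : Y.Opens} (hV : IsAffineOpen V)

theorem toGlobal_res {U : (f ⁻¹ᵁ V : X.Opens).toScheme.Opens} (hle : (f ⁻¹ᵁ V).ι ''ᵁ U ≤ f ⁻¹ᵁ V) (a : Γ(Y, V)) :
    ((f ⁻¹ᵁ V : X.Opens).toScheme.presheaf.map (homOfLE (le_top : U ≤ ⊤)).op)
        (Coh.toGlobal (QCoh.overSpec f hV) a) = f.appLE V ((f ⁻¹ᵁ V).ι ''ᵁ U) hle a := by
  rw [QCoh.toGlobal_overSpec]
  show ((f ⁻¹ᵁ V).ι.appLE (f ⁻¹ᵁ V) ⊤ _ ≫ (f ⁻¹ᵁ V : X.Opens).toScheme.presheaf.map _) (f.app V a) = _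
  rw [Scheme.Hom.appLE_map, Scheme.Opens.ι_appLE, Scheme.Hom.appLE]
  rw [← CommRingCat.comp_apply]
  rfl

/-- Flatness over the base is flatness of the restriction over the affine spectrum. -/
theorem isFlatOver_overSpec {G : X.Modules} (hG : Coh.IsQCoh G) (hfl : FlatMod.IsFlatOver f G) :
    FlatMod.IsFlatOver (QCoh.overSpec f hV) (G.restrict (f ⁻¹ᵁ V).ι) := fun x => by
  let W : X.Opens := f ⁻¹ᵁ V
  obtain ⟨U, hU, hxU, -⟩ := exists_isAffineOpen_mem_and_subset (x := x) (U := ⊤) trivial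
  have hU' := hU.image_of_isOpenImmersion W.ι
  have hle : W.ι ''ᵁ U ≤ f ⁻¹ᵁ V := W.ι_image_le U
  refine (QCoh.flat_appLE_iff (QCoh.overSpec f hV) (QCoh.isQCoh_restrict W.ι hG) hU
    (isAffineOpen_top (Spec Γ(Y, V))) (fun _ _ => trivial)).1 ?_ x hxU
  have h1 := (QCoh.flat_appLE_iff f hG hU' hV hle).2 fun y _ => hfl y
  let σ := ((Scheme.ΓSpecIso Γ(Y, V)).inv).hom
  have hσ : Function.Bijective σ := ConcreteCategory.bijective_of_isIso (Scheme.ΓSpecIso Γ(Y, V)).inv
  letI inst : Module Γ(Spec Γ(Y, V), ⊤) Γ(G.restrict W.ι, U) :=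
    Module.compHom _ ((QCoh.overSpec f hV).appLE ⊤ U (fun _ _ => trivial)).hom
  refine (flat_compHom_iff (M := Γ(G.restrict W.ι, U)) σ hσ).2 ?_
  letI := Module.compHom Γ(G, W.ι ''ᵁ U) (f.appLE V (W.ι ''ᵁ U) hle).hom
  letI := Module.compHom Γ(G.restrict W.ι, U) σ
  haveI : Module.Flat Γ(Y, V) Γ(G, W.ι ''ᵁ U) := h1
  refine Module.Flat.of_linearEquiv (M := Γ(G, W.ι ''ᵁ U))
    { toFun := fun z => z
      invFun := fun z => z
      left_inv := fun _ => rfl
      right_inv := fun _ => rfl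
      map_add' := fun _ _ => rfl
      map_smul' := fun a z => ?_ }
  show (show Γ(G, W.ι ''ᵁ U) from ((QCoh.overSpec f hV).appLE ⊤ U (fun _ _ => trivial)) (σ a) •
    (show Γ(G.restrict W.ι, U) from z)) = _
  refine congrArg (fun c : Γ(X, W.ι ''ᵁ U) => c • (show Γ(G, W.ι ''ᵁ U) from z)) ?_
  refine Eq.trans ?_ (toGlobal_res f hV hle a)
  simp [Coh.toGlobal, Scheme.Hom.appLE, Scheme.Hom.appTop, σ]
  rfl

end Groth.Agent.TwistFlat
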