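import Groth.Agent.AmpleNeg.Basic
import Groth.Agent.QCoh.TensorSections
import Groth.Agent.QCoh.CechMap
import Groth.Agent.AmpleX.ExtendQS
import Mathlib.RingTheory.Flat.EquationalCriterion

/-!
# Flatness from flatness of the sections of high twists
-/

set_option backward.isDefEq.respectTransparency false
set_option backward.isDefEq.respectTransparency.types false
set_option linter.style.haveILetI false

universe u

open CategoryTheory AlgebraicGeometry TopologicalSpace Opposite
open scoped TensorProduct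
open Groth.Agent.H23.PicMul

namespace Groth.Agent.TwistFlat

open Groth.Agent

variable {X : Scheme.{u}} {M N : X.Modules}

/-- Tensoring with a frame over an affine open is bijective on sections. -/
theorem bijective_tmul_frame (hM : Coh.IsQCoh M) (hN : Coh.IsQCoh N) {G : X.Opens} (hG : IsAffineOpen G)
    {e : Γ(N, G)} (he : InvX.IsFrame e) :
    Function.Bijective (fun t : Γ(M, G) => InvX.tmul t e) := by
  let eb : Γ(X, G) ≃ₗ[Γ(X, G)] Γ(N, G) := LinearEquiv.ofBijective (LinearMap.toSpanSingleton Γ(X, G) Γ(N, G) e) (by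
    have h := he G le_rfl
    simp only [AModX.res_self] at h
    exact h)
  let Φ := ((TensorProduct.rid Γ(X, G) Γ(M, G)).symm.trans
    (TensorProduct.congr (LinearEquiv.refl _ Γ(M, G)) eb))
  have key : (fun t : Γ(M, G) => InvX.tmul t e) = QCoh.tmLin M N G ∘ Φ := funext fun t => by
    show InvX.tmul t e = QCoh.tmLin M N G (TensorProduct.congr (LinearEquiv.refl _ Γ(M, G)) eb
      ((TensorProduct.rid Γ(X, G) Γ(M, G)).symm t))
    rw [TensorProduct.rid_symm_apply, TensorProduct.congr_tmul, QCoh.tmLin_tmul]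
    show InvX.tmul t e = InvX.tmul t ((1 : Γ(X, G)) • e)
    rw [one_smul]
  exact key ▸ (QCoh.bijective_tmLin hM hN hG).comp Φ.bijective

variable {A : Type u} [CommRing A] (ρ : A →+* Γ(X, ⊤)) {F L : X.Modules}

/-- The sections over an affine generating locus are flat if those of all high twists are. -/
theorem flat_sections_genLocus [CompactSpace X] [X.IsSeparated] (hF : Coh.IsQCoh F) (hL : PicF.IsInvertible L)
    (s : Coh.structureModule X ⟶ L) (hG : IsAffineOpen (CohB1.genLocus L s)) (N₀ : ℕ)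
    (h : ∀ n, N₀ ≤ n → ∀ E : X.Modules, Nonempty (CohB1.tensorMod F (CohB1.tensorPow L n) ≅ E) →
      letI := QCoh.secModule ρ E ⊤; Module.Flat A Γ(E, ⊤)) :
    letI := QCoh.secModule ρ F (CohB1.genLocus L s); Module.Flat A Γ(F, CohB1.genLocus L s) := by
  classical
  let G := CohB1.genLocus L s
  letI := QCoh.secModule ρ F G
  refine Module.Flat.iff_forall_isTrivialRelation.2 fun {l f x} hx => ?_
  choose n₀ hn₀ using fun i : Fin l => AmpleX.exists_extend hF hL s (x i)
  let m := N₀ + Finset.univ.sup n₀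
  choose T hT using fun i => hn₀ i m (le_trans (Finset.le_sup (f := n₀) (Finset.mem_univ i)) (Nat.le_add_left _ _))
  let e : ∀ n, Γ(CohB1.tensorPow L n, G) := fun n =>
    AmpleX.powElt (AModX.res L (le_top : G ≤ ⊤) (InvX.one s)) n
  have he : ∀ n, InvX.IsFrame (e n) := fun n => AmpleX.isFrame_powElt (AmpleX.res_genLocus_frame s) n
  let E := CohB1.tensorMod F (CohB1.tensorPow L m)
  have hE : Coh.IsQCoh E := KFlatLib.isQCoh_tensor hF
    (ProjUPX.isQCoh_of_isInvertible (InvX.isInvertible_tensorPow hL m))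
  let r : A → ∀ U : X.Opens, Γ(X, U) := fun a U => AModX.resR (le_top : U ≤ ⊤) (ρ a)
  let z : Γ(E, ⊤) := ∑ i, r (f i) ⊤ • T i
  have hz : AModX.res E (le_top : G ≤ ⊤) z = 0 := by
    have h1 : ∀ i, AModX.res E (le_top : G ≤ ⊤) (r (f i) ⊤ • T i) = InvX.tmul (f i • x i) (e m) := fun i => by
      rw [AModX.res_smul, hT, ← InvX.tmul_smul_left, AModX.resR_resR]
      rfl
    rw [map_sum, Finset.sum_congr rfl fun i _ => h1 i]
    let μ : Γ(F, G) →+ Γ(E, G) := AddMonoidHom.mk' (fun t => InvX.tmul t (e m)) fun a b =>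
      QCoh.tmS_add_left F (CohB1.tensorPow L m) a b (e m)
    refine (map_sum μ (fun i => f i • x i) Finset.univ).symm.trans ?_
    rw [hx, map_zero]
  obtain ⟨j₀, hj₀⟩ := AmpleX.exists_killed hE hL s z hz
  let pj := AmpleX.powElt (InvX.one s) j₀
  let E' := CohB1.tensorMod E (CohB1.tensorPow L j₀)
  have hE' : Nonempty (CohB1.tensorMod F (CohB1.tensorPow L (m + j₀)) ≅ E') := cl_eq_iff.1 (by
    rw [cl_tensor, cl_tensor, cl_tensor, cl_tensorPow, cl_tensorPow, cl_tensorPow, pow_add, mul_assoc])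
  letI := QCoh.secModule ρ E' ⊤
  haveI hflat : Module.Flat A Γ(E', ⊤) := h (m + j₀) (by omega) E' hE'
  have hrel : ∑ i, f i • InvX.tmul (T i) pj = 0 := by
    let ν : Γ(E, ⊤) →+ Γ(E', ⊤) := AddMonoidHom.mk' (fun t => InvX.tmul t pj) fun a b =>
      QCoh.tmS_add_left E (CohB1.tensorPow L j₀) a b pj
    have h2 : ν z = 0 := hj₀ j₀ le_rfl
    rw [map_sum] at h2
    refine Eq.trans (Finset.sum_congr rfl fun i _ => ?_) h2
    show _ = InvX.tmul (r (f i) ⊤ • T i) pj
    rw [InvX.tmul_smul_left]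
    rfl
  obtain ⟨k, a, Y, hY, ha⟩ := Module.Flat.iff_forall_isTrivialRelation.1 hflat hrel
  -- back to `G`
  have hb1 := bijective_tmul_frame (M := F) (N := CohB1.tensorPow L m) hF
    (ProjUPX.isQCoh_of_isInvertible (InvX.isInvertible_tensorPow hL m)) hG (he m)
  have hb2 := bijective_tmul_frame (M := E) (N := CohB1.tensorPow L j₀) hE
    (ProjUPX.isQCoh_of_isInvertible (InvX.isInvertible_tensorPow hL j₀)) hG (he j₀)
  letI := QCoh.secModule ρ E' G
  let μ : Γ(F, G) →ₗ[A] Γ(E', G) :=
    { toFun := fun t => InvX.tmul (InvX.tmul t (e m)) (e j₀)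
      map_add' := fun p q => by
        show QCoh.tmS _ _ (QCoh.tmS _ _ (p + q) (e m)) (e j₀) = _
        rw [QCoh.tmS_add_left, QCoh.tmS_add_left]
        rfl
      map_smul' := fun c t => by
        show InvX.tmul (InvX.tmul (r c G • t) (e m)) (e j₀) = r c G • _
        rw [InvX.tmul_smul_left, InvX.tmul_smul_left] }
  have hμ : Function.Bijective μ := hb2.comp hb1
  choose y hy using fun p => hμ.2 (AModX.res E' (le_top : G ≤ ⊤) (Y p))
  refine ⟨k, a, y, fun i => hμ.1 ?_, ha⟩
  rw [map_sum]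
  simp only [map_smul, hy]
  have h3 : μ (x i) = AModX.res E' (le_top : G ≤ ⊤) (InvX.tmul (T i) pj) := by
    rw [InvX.res_tmul, hT, AmpleX.res_powElt]
    rfl
  rw [h3, show InvX.tmul (T i) pj = _ from hY i, map_sum]
  refine Finset.sum_congr rfl fun p _ => ?_
  show AModX.res E' (le_top : G ≤ ⊤) (r (a i p) ⊤ • Y p) = r (a i p) G • AModX.res E' (le_top : G ≤ ⊤) (Y p)
  rw [AModX.res_smul, AModX.resR_resR]

end Groth.Agent.TwistFlat
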