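import Groth.Agent.AmpleX.BaseChange
import Groth.Agent.AmpleVan.Pull
import Groth.Agent.PnCoh.Chow.Proper
import Groth.Agent.AmpleX.RelAffine

/-!
# `O(n)` on subschemes of projective space over a scheme
-/

universe u

open CategoryTheory CategoryTheory.Limits AlgebraicGeometry TopologicalSpace
open Groth.Agent.H23.PicMul

set_option backward.isDefEq.respectTransparency false
set_option backward.isDefEq.respectTransparency.types false
set_option linter.style.haveILetI false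

namespace Groth.Agent.TwistFlat

open Groth.Agent

variable (r : ℕ) {X Y : Scheme.{u}} (i : X ⟶ CohB1.ProjSpaceOver r Y)

/-- `i^* O(1)`. -/
noncomputable abbrev LL : X.Modules := (Scheme.Modules.pullback i).obj (Twist.twistOver r Y 1)

theorem isProper_toBase : IsProper (CohB1.ProjSpaceOver.toBase r Y) := by
  haveI : IsProper (CohB1.ProjSpace.toSpec r (ULift.{u} ℤ)) := PnCoh.Chow.isProper_toSpec r _
  unfold CohB1.ProjSpaceOver.toBase CohB1.ProjSpaceOver
  infer_instance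

theorem isInvertible_twistProjSpace (d : ℤ) : PicF.IsInvertible (Twist.twistProjSpace r (ULift.{u} ℤ) d) :=
  PnCoh.Finite.isInvertible_twist (𝒜 := CohB1.polyGrading r (ULift.{u} ℤ))
    (fun j : Fin (r + 1) => (MvPolynomial.X j : MvPolynomial (Fin (r + 1)) (ULift.{u} ℤ)))
    (fun j => ProjPt.X_mem j) (top_le_iff.1 fun y _ => Opens.mem_iSup.2 (ProjUPX.cov_X y)) d

theorem isInvertible_LL : PicF.IsInvertible (LL r i) :=
  PicClLib.isInvertible_pullback i (PicClLib.isInvertible_pullback _ (isInvertible_twistProjSpace r 1))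

theorem cl_twist (n : ℕ) :
    PicF.cl ((Scheme.Modules.pullback i).obj (Twist.twistOver r Y (n : ℤ))) = PicF.cl (LL r i) ^ n := by
  let g := pullback.fst (CohB1.ProjSpace.toSpec r (ULift.{u} ℤ)) (specULiftZIsTerminal.from Y)
  show PicF.pullCl i (PicF.pullCl g (PicF.cl (Twist.twistProjSpace r (ULift.{u} ℤ) (n : ℤ)))) =
    PicF.pullCl i (PicF.pullCl g (PicF.cl (Twist.twistProjSpace r (ULift.{u} ℤ) 1))) ^ n
  rw [← pullCl_pow, ← pullCl_pow, ← cl_tensorPow]
  refine congrArg (fun c => PicF.pullCl i (PicF.pullCl g c)) (cl_eq_iff.2 ?_)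
  exact PnCoh.Finite.twist_tensorPow_iso (𝒜 := CohB1.polyGrading r (ULift.{u} ℤ))
    (g := fun j : Fin (r + 1) => (MvPolynomial.X j : MvPolynomial (Fin (r + 1)) (ULift.{u} ℤ)))
    (fun j => ProjPt.X_mem j) (top_le_iff.1 fun y _ => Opens.mem_iSup.2 (ProjUPX.cov_X y)) n

theorem isRelAmple_twistOver : RelAmple.IsRelAmple (CohB1.ProjSpaceOver.toBase r Y) (Twist.twistOver r Y 1) := by
  classical
  haveI : IsProper (CohB1.ProjSpace.toSpec r (ULift.{u} ℤ)) := PnCoh.Chow.isProper_toSpec r _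
  let T := Finset.image (fun j : Fin (r + 1) =>
    (MvPolynomial.X j : MvPolynomial (Fin (r + 1)) (ULift.{u} ℤ))) Finset.univ
  have hT : CohB1.IsAmple (Twist.twistProjSpace r (ULift.{u} ℤ) 1) := by
    refine AmpleX.isAmple_twist_one (CohB1.polyGrading r (ULift.{u} ℤ)) T (fun f hf => ?_)
      (top_le_iff.1 fun y _ => ?_)
    · obtain ⟨j, -, rfl⟩ := Finset.mem_image.1 hf
      exact ProjPt.X_mem j
    · obtain ⟨j, hj⟩ := ProjUPX.cov_X y
      exact Opens.mem_iSup.2 ⟨⟨_, Finset.mem_image.2 ⟨j, Finset.mem_univ _, rfl⟩⟩, hj⟩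
  exact AmpleX.isRelAmple_baseChange _ _ ((AmpleX.isRelAmple_iff_isAmple _ _).2 hT)

theorem isAmple_LL [IsClosedImmersion i] {V : Y.Opens} (hV : IsAffineOpen V) :
    CohB1.IsAmple ((LL r i).restrict ((i ≫ CohB1.ProjSpaceOver.toBase r Y) ⁻¹ᵁ V).ι) := by
  let U : (CohB1.ProjSpaceOver r Y).Opens := CohB1.ProjSpaceOver.toBase r Y ⁻¹ᵁ V
  have hU := (isRelAmple_twistOver r (Y := Y)).2 ⟨V, hV⟩
  haveI : CompactSpace U.toScheme := hU.2.1
  let j := i ∣_ U
  haveI : CompactSpace (i ⁻¹ᵁ U).toScheme := j.isClosedEmbedding.compactSpace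
  have h := AmpleVan.isAmple_pullback_of_isEmbedding j j.isClosedEmbedding.isEmbedding hU
  refine AmpleX.isAmple_of_iso (cl_eq_iff.1 ?_).some h
  show PicF.pullCl j (PicF.cl ((Twist.twistOver r Y 1).restrict U.ι)) = _
  rw [cl_eq_iff.2 ⟨(Scheme.Modules.restrictFunctorIsoPullback U.ι).app (Twist.twistOver r Y 1)⟩]
  refine Eq.trans ?_ (cl_eq_iff.2 ⟨(Scheme.Modules.restrictFunctorIsoPullback (i ⁻¹ᵁ U).ι).app (LL r i)⟩).symm
  change PicF.pullCl j (PicF.pullCl U.ι (PicF.cl (Twist.twistOver r Y 1))) =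
    PicF.pullCl (i ⁻¹ᵁ U).ι (PicF.pullCl i (PicF.cl (Twist.twistOver r Y 1)))
  rw [PicClLib.pullCl_comp, PicClLib.pullCl_comp, morphismRestrict_ι]

end Groth.Agent.TwistFlat
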