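import Groth.Agent.TwistFlat.H0Flat
import Groth.Agent.TwistFlat.Converse
import Groth.Agent.TwistFlat.Base
import Groth.Agent.TwistFlat.Transfer
import Groth.Agent.AmpleVan.Uniform
import Groth.Agent.ExistEasy.PP.HatLemmas
import Groth.Agent.KFlatLib.Scheme.TildeAmp
import Groth.Agent.S4474
import Groth.Agent.QCoh.LocFree
import Groth.Agent.SheafHomX.Coherent

/-!
# Flatness over the base and local freeness of the direct images of twists
-/

universe u

open CategoryTheory CategoryTheory.Limits AlgebraicGeometry TopologicalSpace Opposite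
open Groth.Agent.H23.PicMul

set_option backward.isDefEq.respectTransparency false
set_option backward.isDefEq.respectTransparency.types false
set_option linter.style.haveILetI false
set_option maxHeartbeats 1000000

namespace Groth.Agent.TwistFlat

open Groth.Agent

section Sections

variable {X Y : Scheme.{u}} (f : X ⟶ Y) {V : Y.Opens} (hV : IsAffineOpen V)

theorem flat_sections_iff {P : Y.Modules} (hP : Coh.IsQCoh P) (hV : IsAffineOpen V) :
    Module.Flat Γ(Y, V) Γ(P, V) ↔ ∀ y ∈ V, FlatMod.IsFlatOverAt (𝟙 Y) P y := by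
  refine Iff.trans ?_ (QCoh.flat_appLE_iff (𝟙 Y) hP hV hV le_rfl)
  let φ : Γ(Y, V) →+* Γ(Y, V) := ((𝟙 Y : Y ⟶ Y).appLE V V le_rfl).hom
  have hφ : φ = RingHom.id _ := by
    simp [φ, Scheme.Hom.appLE]
    exact congrArg CommRingCat.Hom.hom (Y.presheaf.map_id (op V))
  refine (flat_compHom_iff (M := Γ(P, V)) φ ?_)
  rw [hφ]
  exact Function.bijective_id

/-- Sections over the preimage of an affine open, as sections of the restriction. -/
theorem flat_top_iff (G : X.Modules) :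
    (letI := QCoh.secModule (Coh.toGlobal (QCoh.overSpec f hV)) (G.restrict (f ⁻¹ᵁ V).ι) ⊤
     Module.Flat Γ(Y, V) Γ(G.restrict (f ⁻¹ᵁ V).ι, ⊤)) ↔
      Module.Flat Γ(Y, V) Γ((Scheme.Modules.pushforward f).obj G, V) := by
  let W : X.Opens := f ⁻¹ᵁ V
  letI := QCoh.secModule (Coh.toGlobal (QCoh.overSpec f hV)) (G.restrict W.ι) ⊤
  have h1 : W.ι ''ᵁ (⊤ : W.toScheme.Opens) ≤ W := W.ι_image_le ⊤
  have h2 : W ≤ W.ι ''ᵁ (⊤ : W.toScheme.Opens) := W.ι_image_top.ge
  let e : Γ((Scheme.Modules.pushforward f).obj G, V) ≃ₗ[Γ(Y, V)] Γ(G.restrict W.ι, ⊤) :=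
    { toFun := fun z => AModX.res G h1 (show Γ(G, W) from z)
      invFun := fun z => AModX.res G h2 (show Γ(G, W.ι ''ᵁ (⊤ : W.toScheme.Opens)) from z)
      left_inv := fun z => (AModX.res_res h1 h2 _).trans (AModX.res_self _)
      right_inv := fun z => (AModX.res_res h2 h1 _).trans (AModX.res_self _)
      map_add' := fun a b => map_add _ _ _
      map_smul' := fun a z => by
        show AModX.res G h1 (f.app V a • (show Γ(G, W) from z)) = _
        rw [AModX.res_smul]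
        refine congrArg (fun c : Γ(X, W.ι ''ᵁ (⊤ : W.toScheme.Opens)) =>
          c • AModX.res G h1 (show Γ(G, W) from z)) ?_
        refine ((toGlobal_res f hV (U := ⊤) h1 a).trans (by rw [Scheme.Hom.appLE]; rfl)).symm.trans ?_
        simp
        rfl }
  exact ⟨fun _ => Module.Flat.of_linearEquiv e, fun _ => Module.Flat.of_linearEquiv e.symm⟩

/-- Flatness at points of an affine open over an affine of the base, from its sections. -/
theorem isFlatOverAt_of_secModule {F : X.Modules} (hF : Coh.IsQCoh F) {U : (f ⁻¹ᵁ V : X.Opens).toScheme.Opens}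
    (hU : IsAffineOpen U)
    (h : letI := QCoh.secModule (Coh.toGlobal (QCoh.overSpec f hV)) (F.restrict (f ⁻¹ᵁ V).ι) U
      Module.Flat Γ(Y, V) Γ(F.restrict (f ⁻¹ᵁ V).ι, U))
    (x : X) (hx : x ∈ (f ⁻¹ᵁ V).ι ''ᵁ U) : FlatMod.IsFlatOverAt f F x := by
  let W : X.Opens := f ⁻¹ᵁ V
  have hle : W.ι ''ᵁ U ≤ f ⁻¹ᵁ V := W.ι_image_le U
  refine (QCoh.flat_appLE_iff f hF (hU.image_of_isOpenImmersion W.ι) hV hle).1 ?_ x hx
  refine flat_of_compHom (M := Γ(F, W.ι ''ᵁ U)) (A := Γ(Y, V))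
    (QCoh.secModule (Coh.toGlobal (QCoh.overSpec f hV)) (F.restrict W.ι) U) _
    (RingHom.id _) Function.bijective_id (fun a z => ?_) h
  refine congrArg (fun c : Γ(X, W.ι ''ᵁ U) => c • z) ?_
  refine (toGlobal_res f hV hle a).symm.trans ?_
  simp
  rfl

end Sections

section HH

variable {A : Type u} [CommRing A] {X : Scheme.{u}}

theorem flat_sections_of_iso (ρ : A →+* Γ(X, ⊤)) {M N : X.Modules} (φ : M ≅ N) (U : X.Opens)
    (h : letI := QCoh.secModule ρ M U; Module.Flat A Γ(M, U)) :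
    letI := QCoh.secModule ρ N U; Module.Flat A Γ(N, U) := by
  letI := QCoh.secModule ρ M U
  letI := QCoh.secModule ρ N U
  haveI : Module.Flat A Γ(M, U) := h
  let e : Γ(N, U) ≃ₗ[A] Γ(M, U) :=
    { toFun := φ.inv.app U
      invFun := φ.hom.app U
      left_inv := fun z => by
        rw [← ConcreteCategory.comp_apply, ← Scheme.Modules.Hom.comp_app, φ.inv_hom_id]; rfl
      right_inv := fun z => by
        rw [← ConcreteCategory.comp_apply, ← Scheme.Modules.Hom.comp_app, φ.hom_inv_id]; rfl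
      map_add' := fun a b => map_add _ _ _
      map_smul' := fun a z => φ.inv.app_smul _ z }
  exact Module.Flat.of_linearEquiv e

theorem flat_top_of_flat_HH [X.Over (Spec (CommRingCat.of A))] (M : X.Modules)
    (h : Module.Flat A (Coh.HH X M 0)) :
    letI := QCoh.secModule (Coh.toGlobal (X ↘ Spec (CommRingCat.of A))) M ⊤
    Module.Flat A Γ(M, ⊤) := by
  letI := QCoh.secModule (Coh.toGlobal (X ↘ Spec (CommRingCat.of A))) M ⊤
  let e : Coh.HH X M 0 ≃ₗ[A] Γ(M, ⊤) :=
    { (Sheaf.H.equiv₀ (Coh.toAb M) isTerminalTop : Coh.HH X M 0 ≃+ _) with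
      map_smul' := fun a t =>
        (Sheaf.H.equiv₀_naturality isTerminalTop
          (Coh.smulAb M (Coh.toGlobal (X ↘ Spec (CommRingCat.of A)) a)) t).symm }
  exact Module.Flat.of_linearEquiv e.symm

end HH

variable (r : ℕ) {X Y : Scheme.{u}} (i : X ⟶ CohB1.ProjSpaceOver r Y)

/-- `F(n)` for `n : ℕ`. -/
noncomputable abbrev GG (F : X.Modules) (n : ℕ) : X.Modules :=
  CohB1.tensorMod F ((Scheme.Modules.pullback i).obj (Twist.twistOver r Y (n : ℤ)))

theorem cl_GG (F : X.Modules) (n : ℕ) :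
    PicF.cl (GG r i F n) = PicF.cl (CohB1.tensorMod F (CohB1.tensorPow (LL r i) n)) := by
  rw [cl_tensor, cl_tensor, cl_tensorPow, cl_twist]

theorem cl_GG_restrict (W : X.Opens) (F : X.Modules) (n : ℕ) :
    PicF.cl ((GG r i F n).restrict W.ι) =
      PicF.cl (CohB1.tensorMod (F.restrict W.ι) (CohB1.tensorPow ((LL r i).restrict W.ι) n)) := by
  rw [S4474.cl_restrict_twist, S4474.cl_restrict, S4474.cl_restrict, cl_GG]

theorem exists_forall_isFinLocFree [IsNoetherian Y] [IsClosedImmersion i] {F : X.Modules} (hF : Coh.IsCoh F)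
    (hfl : FlatMod.IsFlatOver (i ≫ CohB1.ProjSpaceOver.toBase r Y) F) :
    ∃ N : ℕ, ∀ n, N ≤ n → FlatMod.IsFinLocFree
      ((Coh.push (i ≫ CohB1.ProjSpaceOver.toBase r Y)).obj (GG r i F n)) := by
  classical
  let f := i ≫ CohB1.ProjSpaceOver.toBase r Y
  haveI := isProper_toBase r (Y := Y)
  haveI : IsProper f := inferInstanceAs (IsProper (i ≫ CohB1.ProjSpaceOver.toBase r Y))
  haveI : IsLocallyNoetherian X := LocallyOfFiniteType.isLocallyNoetherian f
  have hinv : ∀ n : ℕ, PicF.IsInvertible ((Scheme.Modules.pullback i).obj (Twist.twistOver r Y (n : ℤ))) :=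
    fun n => PicClLib.isInvertible_pullback i (PicClLib.isInvertible_pullback _ (isInvertible_twistProjSpace r _))
  have hG : ∀ n, Coh.IsCoh (GG r i F n) := fun n =>
    AmpleVan.isCoh_tensor hF (AmpleVan.isCoh_invertible (hinv n))
  have hflG : ∀ n, FlatMod.IsFlatOver f (GG r i F n) := fun n => isFlatOver_tensor f (hinv n) hfl
  have key : ∀ V : Y.affineOpens, ∃ d₀, ∀ d, d₀ ≤ d →
      Module.Flat Γ(Y, V.1) Γ((Scheme.Modules.pushforward f).obj (GG r i F d), V.1) := fun V => by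
    let W : X.Opens := f ⁻¹ᵁ V.1
    let A := Γ(Y, V.1)
    letI : W.toScheme.Over (Spec (CommRingCat.of Γ(Y, V.1))) := ⟨QCoh.overSpec f V.2⟩
    haveI : IsProper (W.toScheme ↘ Spec (CommRingCat.of Γ(Y, V.1))) :=
      inferInstanceAs (IsProper ((f ∣_ V.1) ≫ V.2.isoSpec.hom))
    haveI : IsNoetherianRing Γ(Y, V.1) := IsLocallyNoetherian.component_noetherian V
    obtain ⟨d₀, hd₀⟩ := AmpleVan.exists_vanishing (A := Γ(Y, V.1)) (X := W.toScheme)
      (isAmple_LL r i V.2) (M := F.restrict W.ι) (QCoh.isCoh_restrict_open hF)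
    haveI : CompactSpace W.toScheme := AmpleVan.compactSpace_of_proper (A := Γ(Y, V.1))
    haveI := AmpleVan.isSeparated_of_proper (X := W.toScheme) (A := Γ(Y, V.1))
    refine ⟨d₀, fun d hd => (flat_top_iff f V.2 _).1 (flat_top_of_flat_HH (A := Γ(Y, V.1)) _ ?_)⟩
    refine flat_HH_zero (A := Γ(Y, V.1)) (QCoh.isQCoh_restrict W.ι (hG d).1)
      (isFlatOver_overSpec f V.2 (hG d).1 (hflG d)) fun p hp => ?_
    obtain ⟨φ⟩ := cl_eq_iff.1 (cl_GG_restrict r i W F d)
    obtain ⟨q, rfl⟩ : ∃ q, p = q + 1 := ⟨p - 1, by omega⟩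
    exact QCoh.subsingleton_HH_of_iso φ.symm _ (hd₀ d hd q)
  choose d₀ hd₀ using key
  obtain ⟨t, ht⟩ := isCompact_univ.elim_finite_subcover (fun V : Y.affineOpens => (V.1 : Set Y))
    (fun V => V.1.isOpen) (fun y _ => by
      obtain ⟨U, hU, hy, -⟩ := exists_isAffineOpen_mem_and_subset (x := y) (U := ⊤) trivial
      exact Set.mem_iUnion.2 ⟨⟨U, hU⟩, hy⟩)
  refine ⟨t.sup d₀, fun n hn => QCoh.isFlat_and_isFP_iff.1 ⟨?_, ?_⟩⟩
  · refine (KFlatLib.isFlatOver_id_iff _).1 fun y => ?_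
    obtain ⟨V, hVt, hy⟩ := Set.mem_iUnion₂.1 (ht (Set.mem_univ y))
    exact (flat_sections_iff (ExistEasy.isCoh_pushforward_proper f (hG n)).1 V.2).1
      (hd₀ V n (le_trans (Finset.le_sup (f := d₀) hVt) hn)) y hy
  · exact QCoh.isCoh_iff_isFP.1 (ExistEasy.isCoh_pushforward_proper f (hG n))

theorem isFlatOver_of_forall [IsNoetherian Y] [IsClosedImmersion i] {F : X.Modules} (hF : Coh.IsCoh F) (N₀ : ℕ)
    (h : ∀ n, N₀ ≤ n → FlatMod.IsFlat
      ((Coh.push (i ≫ CohB1.ProjSpaceOver.toBase r Y)).obj (GG r i F n))) :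
    FlatMod.IsFlatOver (i ≫ CohB1.ProjSpaceOver.toBase r Y) F := fun x => by
  let f := i ≫ CohB1.ProjSpaceOver.toBase r Y
  haveI := isProper_toBase r (Y := Y)
  haveI : IsProper f := inferInstanceAs (IsProper (i ≫ CohB1.ProjSpaceOver.toBase r Y))
  haveI : IsLocallyNoetherian X := LocallyOfFiniteType.isLocallyNoetherian f
  have hG : ∀ n : ℕ, Coh.IsCoh (GG r i F n) := fun n => AmpleVan.isCoh_tensor hF (AmpleVan.isCoh_invertible
    (PicClLib.isInvertible_pullback i (PicClLib.isInvertible_pullback _ (isInvertible_twistProjSpace r _))))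
  obtain ⟨V, hV, hxV, -⟩ := exists_isAffineOpen_mem_and_subset (x := f.base x) (U := ⊤) trivial
  let W : X.Opens := f ⁻¹ᵁ V
  letI : W.toScheme.Over (Spec (CommRingCat.of Γ(Y, V))) := ⟨QCoh.overSpec f hV⟩
  haveI : IsProper (W.toScheme ↘ Spec (CommRingCat.of Γ(Y, V))) :=
    inferInstanceAs (IsProper ((f ∣_ V) ≫ hV.isoSpec.hom))
  haveI : CompactSpace W.toScheme := AmpleVan.compactSpace_of_proper (A := Γ(Y, V))
  haveI := AmpleVan.isSeparated_of_proper (X := W.toScheme) (A := Γ(Y, V))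
  let M := (LL r i).restrict W.ι
  obtain ⟨hM, -, hM'⟩ := AmpleX.isAmple_iff.1 (isAmple_LL r i hV)
  obtain ⟨a, ha, s, hxs, haff⟩ := hM' ⟨x, hxV⟩
  let ρ : Γ(Y, V) →+* Γ(W.toScheme, ⊤) := Coh.toGlobal (QCoh.overSpec f hV)
  have hsec := flat_sections_genLocus ρ (QCoh.isQCoh_restrict W.ι hF.1) (InvX.isInvertible_tensorPow hM a) s haff N₀
    fun n hn E ⟨φ⟩ => by
      have hle : N₀ ≤ a * n := le_trans hn (Nat.le_mul_of_pos_left n ha)
      obtain ⟨ψ⟩ : Nonempty ((GG r i F (a * n)).restrict W.ι ≅ E) := cl_eq_iff.1 (by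
        rw [cl_GG_restrict, ← cl_eq_iff.2 ⟨φ⟩, cl_tensor, cl_tensor, cl_tensorPow, cl_tensorPow, cl_tensorPow,
          pow_mul])
      refine flat_sections_of_iso ρ ψ ⊤ ((flat_top_iff f hV _).2 ?_)
      exact (flat_sections_iff (ExistEasy.isCoh_pushforward_proper f (hG _)).1 hV).2
        fun y _ => (KFlatLib.isFlatOver_id_iff _).2 (h _ hle) y
  exact isFlatOverAt_of_secModule f hV hF.1 haff hsec x ⟨⟨x, hxV⟩, hxs, rfl⟩

end Groth.Agent.TwistFlat
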