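import Groth.Agent.QCoh.FlatCoh
import Groth.Agent.FlatCxLib.Local
import Groth.Agent.AmpleNeg.Basic

/-!
# Flatness of the sections of a flat module without higher cohomology
-/

set_option backward.isDefEq.respectTransparency false
set_option backward.isDefEq.respectTransparency.types false
set_option linter.style.haveILetI false
set_option maxHeartbeats 1000000

universe u

open CategoryTheory CategoryTheory.Limits AlgebraicGeometry TopologicalSpace Opposite MonoidalCategory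
open scoped TensorProduct

namespace Groth.Agent.TwistFlat

open Groth.Agent Groth.Agent.QCoh

variable {A : Type u} [CommRing A] {X : Scheme.{u}} [X.Over (Spec (CommRingCat.of A))]

theorem flat_HH_zero [CompactSpace X] [X.IsSeparated] {F : X.Modules} (hF : Coh.IsQCoh F)
    (hfl : FlatMod.IsFlatOver (X ↘ Spec (CommRingCat.of A)) F)
    (h1 : ∀ p : ℕ, 0 < p → Subsingleton (Coh.HH X F p)) : Module.Flat A (Coh.HH X F 0) := by
  obtain ⟨κ, _, U, hcov, hU⟩ := exists_affine_cover (X := X)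
  obtain ⟨d, hd⟩ := exists_HH_bound (X := X)
  let C := cechA (A := A) F U
  let P := revCx (FlatModel.toZ C)
  have hflP : ∀ i, Module.Flat A (P.X i) := fun i => by
    by_cases hi : 0 < i
    · haveI := ModuleCat.subsingleton_of_isZero (FlatModel.isZero_toZ C (-i) (by lia))
      exact inferInstanceAs (Module.Flat A ((FlatModel.toZ C).X (-i)))
    · obtain ⟨m, hm⟩ : ∃ m : ℕ, ComplexShape.embeddingUpNat.f m = -i := ⟨(-i).toNat, by simp; lia⟩
      haveI := flat_cechA F hF hfl hU m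
      exact Module.Flat.of_linearEquiv (C.extendXIso ComplexShape.embeddingUpNat hm).toLinearEquiv
  have hP : ∀ p : ℕ, Nonempty (CohIII.TFun P (-(p : ℤ)) ⋙ forget₂ (ModuleCat.{u} A) AddCommGrpCat.{u} ≅
      CohIII.tensorAFunctor A F ⋙ CohIII.HAb X p) := fun p => by
    obtain ⟨r⟩ := nonempty_tfun_revCx (FlatModel.toZ C) (-(p : ℤ))
    obtain ⟨z⟩ := FlatModel.nonempty_tfun_toZ C p
    obtain ⟨e⟩ := nonempty_tfun_iso (A := A) F hF hcov hU p
    exact ⟨Functor.isoWhiskerRight (r ≪≫ eqToIso (by rw [neg_neg]) ≪≫ z) _ ≪≫ e⟩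
  have hlow : ∀ q : ℤ, q < -(d : ℤ) → ∀ M, IsZero ((CohIII.TFun P q).obj M) := fun q hq M => by
    obtain ⟨p, rfl⟩ : ∃ p : ℕ, q = -(p : ℤ) := ⟨(-q).toNat, by lia⟩
    obtain ⟨e⟩ := hP p
    have h0 : Subsingleton (Coh.HH X (tA F M) p) := hd _ (isQCoh_tA F hF M) p (by lia)
    haveI : Subsingleton ((CohIII.TFun P (-(p : ℤ))).obj M) :=
      (e.app M).addCommGroupIsoToAddEquiv.toEquiv.subsingleton_congr.2 h0
    exact ModuleCat.isZero_of_subsingleton _
  have hHP : ∀ p : ℕ, Nonempty (CohIII.T P (-(p : ℤ)) (ModuleCat.of A A) ≃ₗ[A] Coh.HH X F p) := fun p => by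
    obtain ⟨r⟩ := nonempty_tfun_revCx (FlatModel.toZ C) (-(p : ℤ))
    obtain ⟨z⟩ := FlatModel.nonempty_tfun_toZ C p
    obtain ⟨e₁⟩ := cxMod_homology_equiv (Coh.toGlobal (X ↘ Spec (CommRingCat.of A))) U hcov hU hF p
    exact ⟨((r ≪≫ eqToIso (by rw [neg_neg]) ≪≫ z).app (ModuleCat.of A A)).toLinearEquiv.trans
      (((HomologicalComplex.homologyFunctor _ _ p).mapIso (tensorSelfIso C)).toLinearEquiv.trans e₁)⟩
  have hneg : ∀ r : ℤ, r < 0 → Module.Flat A (CohIII.T P r (ModuleCat.of A A)) := fun r hr => by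
    obtain ⟨p, rfl⟩ : ∃ p : ℕ, r = -(p : ℤ) := ⟨(-r).toNat, by lia⟩
    obtain ⟨l⟩ := hHP p
    haveI := h1 p (by lia)
    haveI : Subsingleton (CohIII.T P (-(p : ℤ)) (ModuleCat.of A A)) := l.toEquiv.subsingleton
    infer_instance
  have hepi : ∀ n : ℕ, -(d : ℤ) - 1 + n ≤ 0 → (CohIII.TFun P (-(d : ℤ) - 1 + n)).PreservesEpimorphisms := by
    intro n
    induction n with
    | zero => exact fun _ => (isExactT_of_isZero (hlow _ (by simp))).2
    | succ n ih =>
      intro hn
      have h := (FlatCxLib.exact_iff (P := P) hflP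
        (show -(d : ℤ) - 1 + n + 1 = -(d : ℤ) - 1 + n + 1 from rfl)
        (show -(d : ℤ) - 1 + n - 1 + 1 = -(d : ℤ) - 1 + (n : ℤ) by ring)).2
        ⟨ih (by lia), hneg _ (by lia)⟩
      exact (FlatCxLib.preservesEpi_iff_preservesMono hflP
        (show (-(d : ℤ) - 1 + n) + 1 = -(d : ℤ) - 1 + (n + 1 : ℕ) by push_cast; ring)).2 h.1
  have hepi0 : (CohIII.TFun P 0).PreservesEpimorphisms := by
    have h := hepi (d + 1) (by push_cast; lia)
    rwa [show -(d : ℤ) - 1 + ((d + 1 : ℕ) : ℤ) = 0 by push_cast; ring] at h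
  have hz : Subsingleton (P.X 1) := ModuleCat.subsingleton_of_isZero (FlatModel.isZero_toZ C (-1) (by lia))
  have hmono0 : (CohIII.TFun P 0).PreservesMonomorphisms := by
    refine (FlatCxLib.preservesMono_iff hflP (show (0 : ℤ) + 1 = 1 from rfl)).2 ?_
    haveI := hflP 0
    have hr : LinearMap.range (P.d 1 0).hom = ⊥ := by
      refine (Submodule.eq_bot_iff _).2 ?_
      rintro _ ⟨z, rfl⟩
      rw [Subsingleton.elim z 0, map_zero]
    exact Module.Flat.of_linearEquiv (Submodule.quotEquivOfEqBot _ hr)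
  have h := ((FlatCxLib.exact_iff (P := P) hflP (show (0 : ℤ) + 1 = 1 from rfl)
    (show (-1 : ℤ) + 1 = 0 from rfl)).1 ⟨hmono0, hepi0⟩).2
  obtain ⟨l⟩ := hHP 0
  have h' : Module.Flat A (CohIII.T P (-((0 : ℕ) : ℤ)) (ModuleCat.of A A)) := by
    rw [show (-((0 : ℕ) : ℤ)) = 0 by norm_num]
    exact h
  let N : Type u := CohIII.T P (-((0 : ℕ) : ℤ)) (ModuleCat.of A A)
  haveI hN : Module.Flat A N := h'
  let l' : N ≃ₗ[A] Coh.HH X F 0 := l
  exact Module.Flat.of_linearEquiv l'.symm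

/-- Tensoring with an invertible module preserves flatness over the base. -/
theorem isFlatOver_tensor {X S : Scheme.{u}} (f : X ⟶ S) {M N : X.Modules} (hN : PicF.IsInvertible N)
    (hfl : FlatMod.IsFlatOver f M) : FlatMod.IsFlatOver f (CohB1.tensorMod M N) := fun x => by
  obtain ⟨U, hx, e, he⟩ := InvX.exists_frame hN x
  obtain ⟨E⟩ := AmpleNeg.exists_stalkEquiv (M := M) hx he
  letI := FlatMod.moduleStalkOver f M x
  letI := FlatMod.moduleStalkOver f (CohB1.tensorMod M N) x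
  haveI : Module.Flat (S.presheaf.stalk (f.base x)) (M.presheaf.stalk x) := hfl x
  exact Module.Flat.of_linearEquiv (R := S.presheaf.stalk (f.base x))
    ({ E.toAddEquiv with map_smul' := fun r m => E.map_smul (f.stalkMap x r) m } :
      M.presheaf.stalk x ≃ₗ[S.presheaf.stalk (f.base x)] (CohB1.tensorMod M N).presheaf.stalk x).symm

end Groth.Agent.TwistFlat
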